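import Mathlib.Algebra.Colimit.Module
import Mathlib.LinearAlgebra.TensorProduct.DirectLimit
import Mathlib.LinearAlgebra.TensorProduct.RightExactness
import Mathlib.LinearAlgebra.Finsupp.Supported
import Mathlib.Algebra.Module.FinitePresentation
import Mathlib.RingTheory.TensorProduct.Finite

/-!
Directed colimits of modules against tensor products and finitely presented modules;
every module is a directed colimit of finitely presented modules.
-/

set_option autoImplicit false
set_option linter.style.haveILetI false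
open TensorProduct

universe u v w

namespace Groth.Agent.MLMod.Colim

variable {R : Type u} [CommRing R] {ι : Type w} [Preorder ι] [DecidableEq ι]
  {G : ι → Type v} [∀ i, AddCommGroup (G i)] [∀ i, Module R (G i)]
  {f : ∀ i j, i ≤ j → G i →ₗ[R] G j}

theorem exists_rTensor_of [IsDirectedOrder ι] [Nonempty ι] {Q : Type*} [AddCommGroup Q] [Module R Q]
    (x : Module.DirectLimit G f ⊗[R] Q) :
    ∃ i y, (Module.DirectLimit.of R ι G f i).rTensor Q y = x := by
  induction x using TensorProduct.induction_on with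
  | zero => exact ⟨Classical.arbitrary ι, 0, map_zero _⟩
  | tmul z q =>
    obtain ⟨i, g, rfl⟩ := Module.DirectLimit.exists_of z
    exact ⟨i, g ⊗ₜ q, by simp⟩
  | add x y hx hy =>
    obtain ⟨i, a, rfl⟩ := hx
    obtain ⟨j, b, rfl⟩ := hy
    obtain ⟨k, hik, hjk⟩ := exists_ge_ge i j
    refine ⟨k, (f i k hik).rTensor Q a + (f j k hjk).rTensor Q b, ?_⟩
    rw [map_add, ← LinearMap.rTensor_comp_apply, ← LinearMap.rTensor_comp_apply]
    congr 3 <;> ext z <;> simp

theorem rTensor_of_zero_exact [IsDirectedOrder ι] [DirectedSystem G fun i j h => f i j h]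
    {Q : Type*} [AddCommGroup Q] [Module R Q] {i : ι} (x : G i ⊗[R] Q)
    (hx : (Module.DirectLimit.of R ι G f i).rTensor Q x = 0) :
    ∃ j, ∃ hij : i ≤ j, (f i j hij).rTensor Q x = 0 := by
  have h := congrArg (TensorProduct.directLimitLeft f Q) hx
  rw [TensorProduct.directLimitLeft_rTensor_of, map_zero] at h
  exact Module.DirectLimit.of.zero_exact h

theorem exists_comp_eq_of_fg [IsDirectedOrder ι] [DirectedSystem G fun i j h => f i j h]
    {P : Type*} [AddCommGroup P] [Module R P] [Module.Finite R P] {i : ι} (a b : P →ₗ[R] G i)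
    (h : Module.DirectLimit.of R ι G f i ∘ₗ a = Module.DirectLimit.of R ι G f i ∘ₗ b) :
    ∃ j, ∃ hij : i ≤ j, f i j hij ∘ₗ a = f i j hij ∘ₗ b := by
  classical
  obtain ⟨s, hs⟩ := (Module.Finite.fg_top : (⊤ : Submodule R P).FG)
  have h1 : ∀ p : P, ∃ j, ∃ hij : i ≤ j, f i j hij (a p - b p) = 0 := fun p =>
    Module.DirectLimit.of.zero_exact (by rw [map_sub, sub_eq_zero]; exact LinearMap.congr_fun h p)
  choose j hij hz using h1
  have : Nonempty ι := ⟨i⟩
  obtain ⟨k, hk⟩ := Finset.exists_le (insert i (s.image j))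
  have hik : i ≤ k := hk i (by simp)
  refine ⟨k, hik, LinearMap.ext_on hs fun p hp => ?_⟩
  have hjk : j p ≤ k := hk _ (by simp only [Finset.mem_insert, Finset.mem_image]; exact Or.inr ⟨p, hp, rfl⟩)
  have := congrArg (f (j p) k hjk) (hz p)
  rw [DirectedSystem.map_map (f := fun i j h => f i j h), map_zero, map_sub, sub_eq_zero] at this
  exact this

theorem exists_lift_free [IsDirectedOrder ι] [Nonempty ι] {n : ℕ}
    (φ : (Fin n → R) →ₗ[R] Module.DirectLimit G f) :
    ∃ i ψ, Module.DirectLimit.of R ι G f i ∘ₗ ψ = φ := by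
  classical
  choose j y hy using fun k => Module.DirectLimit.exists_of (φ (Pi.single k 1))
  obtain ⟨i, hi⟩ := Finset.exists_le (Finset.univ.image j)
  have hji : ∀ k, j k ≤ i := fun k => hi _ (by simp)
  refine ⟨i, (Pi.basisFun R (Fin n)).constr R fun k => f (j k) i (hji k) (y k),
    (Pi.basisFun R (Fin n)).ext fun k => ?_⟩
  rw [LinearMap.comp_apply, Module.Basis.constr_basis, Module.DirectLimit.of_f, hy,
    Pi.basisFun_apply]

theorem exists_lift_fp [IsDirectedOrder ι] [Nonempty ι] [DirectedSystem G fun i j h => f i j h]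
    {P : Type*} [AddCommGroup P] [Module R P] [Module.FinitePresentation R P]
    (φ : P →ₗ[R] Module.DirectLimit G f) :
    ∃ i ψ, Module.DirectLimit.of R ι G f i ∘ₗ ψ = φ := by
  obtain ⟨n, K, e, hK⟩ := Module.FinitePresentation.exists_fin R P
  obtain ⟨i, ψ, hψ⟩ := exists_lift_free (φ ∘ₗ e.symm.toLinearMap ∘ₗ K.mkQ)
  have : Module.Finite R K := Module.Finite.iff_fg.mpr hK
  obtain ⟨j, hij, hj⟩ := exists_comp_eq_of_fg (ψ ∘ₗ K.subtype) 0 (by
    ext k
    have := LinearMap.congr_fun hψ (k : Fin n → R)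
    simp only [LinearMap.comp_apply, Submodule.subtype_apply, LinearMap.zero_apply, map_zero] at this ⊢
    rw [this, (Submodule.mkQ_apply _ _).trans ((Submodule.Quotient.mk_eq_zero K).mpr k.2)]
    simp)
  refine ⟨j, K.liftQ (f i j hij ∘ₗ ψ) ?_ ∘ₗ e.toLinearMap, ?_⟩
  · intro k hk
    simpa using LinearMap.congr_fun hj ⟨k, hk⟩
  · ext p
    obtain ⟨v, hv⟩ := Submodule.mkQ_surjective K (e p)
    have := LinearMap.congr_fun hψ v
    simp only [LinearMap.comp_apply, LinearEquiv.coe_coe, hv, LinearEquiv.symm_apply_apply] at this ⊢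
    rw [← hv, Submodule.mkQ_apply, Submodule.liftQ_apply, LinearMap.comp_apply,
      Module.DirectLimit.of_f, this]

section FPColim

variable (R) (M : Type v) [AddCommGroup M] [Module R M]

/-- Indices: a finite set of elements and finitely many relations between them. -/
noncomputable def Idx : Type (max u v) :=
  {p : Finset M × Submodule R (M →₀ R) //
    p.2.FG ∧ p.2 ≤ Finsupp.supported R R (p.1 : Set M) ⊓
      LinearMap.ker (Finsupp.linearCombination R (id : M → M))}

noncomputable instance : Preorder (Idx R M) := Preorder.lift (fun p => p.1)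

instance : Nonempty (Idx R M) := ⟨⟨(∅, ⊥), Submodule.fg_bot, bot_le⟩⟩

instance : IsDirectedOrder (Idx R M) := ⟨fun a b => by
  classical
  refine ⟨⟨(a.1.1 ∪ b.1.1, a.1.2 ⊔ b.1.2), a.2.1.sup b.2.1, sup_le ?_ ?_⟩, ?_, ?_⟩
  · exact a.2.2.trans (inf_le_inf_right _ (Finsupp.supported_mono (by simp)))
  · exact b.2.2.trans (inf_le_inf_right _ (Finsupp.supported_mono (by simp)))
  · exact ⟨Finset.subset_union_left, le_sup_left⟩
  · exact ⟨Finset.subset_union_right, le_sup_right⟩⟩

variable {R M}

/-- The finitely presented module attached to an index. -/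
noncomputable def Stage (a : Idx R M) : Type (max u v) :=
  ↥((Finsupp.supported R R (a.1.1 : Set M)).map a.1.2.mkQ)

noncomputable instance (a : Idx R M) : AddCommGroup (Stage a) :=
  inferInstanceAs (AddCommGroup ↥((Finsupp.supported R R (a.1.1 : Set M)).map a.1.2.mkQ))

noncomputable instance (a : Idx R M) : Module R (Stage a) :=
  inferInstanceAs (Module R ↥((Finsupp.supported R R (a.1.1 : Set M)).map a.1.2.mkQ))

noncomputable def stageMap (a b : Idx R M) (h : a ≤ b) : Stage a →ₗ[R] Stage b :=
  LinearMap.restrict (Submodule.mapQ a.1.2 b.1.2 LinearMap.id h.2) (by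
    rintro _ ⟨x, hx, rfl⟩
    exact ⟨x, Finsupp.supported_mono (Finset.coe_subset.mpr h.1) hx, rfl⟩)

instance : DirectedSystem (Stage (R := R) (M := M)) fun a b h => stageMap a b h where
  map_self a x := by
    obtain ⟨_, x, hx, rfl⟩ := x
    exact Subtype.ext rfl
  map_map k j i hij hjk x := by
    obtain ⟨_, x, hx, rfl⟩ := x
    exact Subtype.ext rfl

noncomputable def stageToM (a : Idx R M) : Stage a →ₗ[R] M :=
  Submodule.liftQ a.1.2 (Finsupp.linearCombination R (id : M → M)) (fun _ hx => (a.2.2 hx).2) ∘ₗ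
    Submodule.subtype _

theorem stage_finitePresentation (a : Idx R M) : Module.FinitePresentation R (Stage a) := by
  let π₀ : ((a.1.1 : Set M) → R) →ₗ[R] (M →₀ R) :=
    Finsupp.lmapDomain R R (Subtype.val) ∘ₗ (Finsupp.linearEquivFunOnFinite R R (a.1.1 : Set M)).symm.toLinearMap
  have hr : LinearMap.range π₀ = Finsupp.supported R R (a.1.1 : Set M) := by
    rw [LinearMap.range_comp, LinearEquiv.range, Submodule.map_top, Finsupp.range_lmapDomain,
      Finsupp.supported_eq_span_single]
    congr 1; ext z; simp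
  have hinj : Function.Injective π₀ :=
    (Finsupp.mapDomain_injective Subtype.val_injective).comp (LinearEquiv.injective _)
  let π : ((a.1.1 : Set M) → R) →ₗ[R] Stage a :=
    LinearMap.codRestrict ((Finsupp.supported R R (a.1.1 : Set M)).map a.1.2.mkQ) (a.1.2.mkQ ∘ₗ π₀)
      (fun v => ⟨π₀ v, hr ▸ LinearMap.mem_range_self π₀ v, rfl⟩)
  refine Module.finitePresentation_of_free_of_surjective π ?_ ?_
  · rintro ⟨_, x, hx, rfl⟩
    obtain ⟨v, hv⟩ : x ∈ LinearMap.range π₀ := hr ▸ hx
    exact ⟨v, Subtype.ext (congrArg a.1.2.mkQ hv)⟩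
  · refine Submodule.fg_of_fg_map_injective π₀ hinj ?_
    convert a.2.1
    ext x
    constructor
    · rintro ⟨y, hy, rfl⟩
      exact (Submodule.Quotient.mk_eq_zero _).mp (congrArg Subtype.val hy)
    · intro hx
      obtain ⟨v, rfl⟩ : x ∈ LinearMap.range π₀ := hr ▸ (a.2.2 hx).1
      exact ⟨v, Subtype.ext ((Submodule.Quotient.mk_eq_zero _).mpr hx), rfl⟩

/-- Every module is a directed colimit of finitely presented modules. -/
noncomputable def colimitEquiv [DecidableEq (Idx R M)] :
    Module.DirectLimit (Stage (R := R) (M := M)) stageMap ≃ₗ[R] M :=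
  LinearEquiv.ofBijective
    (Module.DirectLimit.lift R (Idx R M) _ _ stageToM (fun a b h x => by
      obtain ⟨_, x, hx, rfl⟩ := x
      rfl)) (by
    constructor
    · rw [injective_iff_map_eq_zero]
      intro z hz
      obtain ⟨a, x, rfl⟩ := Module.DirectLimit.exists_of z
      rw [Module.DirectLimit.lift_of] at hz
      obtain ⟨_, x, hxs, rfl⟩ := x
      have hx : Finsupp.linearCombination R (id : M → M) x = 0 := hz
      let b : Idx R M := ⟨(a.1.1, a.1.2 ⊔ R ∙ x), a.2.1.sup (Submodule.fg_span_singleton _),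
        sup_le a.2.2 (by
          rw [Submodule.span_singleton_le_iff_mem]
          exact ⟨hxs, hx⟩)⟩
      have hab : a ≤ b := ⟨subset_rfl, show a.1.2 ≤ a.1.2 ⊔ R ∙ x from le_sup_left⟩
      rw [← Module.DirectLimit.of_f (hij := hab)]
      convert map_zero (Module.DirectLimit.of R (Idx R M) _ stageMap b)
      exact Subtype.ext ((Submodule.Quotient.mk_eq_zero _).mpr
        (Submodule.mem_sup_right (Submodule.mem_span_singleton_self x)))
    · intro m
      let a : Idx R M := ⟨({m}, ⊥), Submodule.fg_bot, bot_le⟩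
      refine ⟨Module.DirectLimit.of R (Idx R M) _ stageMap a
        ⟨a.1.2.mkQ (Finsupp.single m 1), _, Finsupp.single_mem_supported R 1 (by simp [a]), rfl⟩, ?_⟩
      rw [Module.DirectLimit.lift_of]
      show Finsupp.linearCombination R (id : M → M) (Finsupp.single m 1) = m
      simp)

end FPColim

end Groth.Agent.MLMod.Colim
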