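import Groth.Prelude.Def_Found
import Groth.Prelude.Def_CAlgX
import Groth.Agent.MLMod.Colim
import Mathlib.RingTheory.Flat.Basic
import Mathlib.LinearAlgebra.TensorProduct.Pi

/-!
Mittag-Leffler modules: domination of maps and the basic characterisations.
-/

set_option autoImplicit false
set_option linter.style.haveILetI false
open TensorProduct

universe u

namespace Groth.Agent.MLMod

variable (R : Type u) [CommRing R]

/-- `g` dominates `f`: for every module `Q`, `ker (f ⊗ Q) ≤ ker (g ⊗ Q)`. -/
def Dominates {M N M' : Type u} [AddCommGroup M] [Module R M] [AddCommGroup N] [Module R N]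
    [AddCommGroup M'] [Module R M'] (f : M →ₗ[R] N) (g : M →ₗ[R] M') : Prop :=
  ∀ (Q : Type u) [AddCommGroup Q] [Module R Q], LinearMap.ker (f.rTensor Q) ≤ LinearMap.ker (g.rTensor Q)

variable {R}

section PiHom

variable {ι : Type u} {Q : ι → Type u} [∀ i, AddCommGroup (Q i)] [∀ i, Module R (Q i)]

theorem piRightHom_rTensor {M N : Type u} [AddCommGroup M] [Module R M] [AddCommGroup N] [Module R N]
    (f : M →ₗ[R] N) (x : M ⊗[R] (Π i, Q i)) (i : ι) :
    piRightHom R R N Q (f.rTensor _ x) i = f.rTensor (Q i) (piRightHom R R M Q x i) := by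
  induction x using TensorProduct.induction_on with
  | zero => simp
  | tmul m q => simp
  | add x y hx hy => simp only [map_add, Pi.add_apply, hx, hy]

theorem piRightHom_apply_eq_lTensor {M : Type u} [AddCommGroup M] [Module R M]
    (x : M ⊗[R] (Π i, Q i)) (i : ι) :
    piRightHom R R M Q x i = (LinearMap.proj i : (Π i, Q i) →ₗ[R] Q i).lTensor M x := by
  induction x using TensorProduct.induction_on with
  | zero => simp
  | tmul m q => simp
  | add x y hx hy => simp only [map_add, Pi.add_apply, hx, hy]

/-- Coordinates on `Rⁿ ⊗ Q`. -/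
noncomputable def finFunTensor (n : ℕ) (Q : Type u) [AddCommGroup Q] [Module R Q] :
    (Fin n → R) ⊗[R] Q ≃ₗ[R] (Fin n → Q) :=
  TensorProduct.piLeft R Q (fun _ : Fin n => R) ≪≫ₗ
    LinearEquiv.piCongrRight (fun _ => TensorProduct.lid R Q)

theorem finFunTensor_piRightHom {n : ℕ} (x : (Fin n → R) ⊗[R] (Π i, Q i)) (i : ι) (k : Fin n) :
    finFunTensor n (Q i) (piRightHom R R (Fin n → R) Q x i) k = finFunTensor n (Π i, Q i) x k i := by
  induction x using TensorProduct.induction_on with
  | zero => simp
  | tmul m q => simp [finFunTensor]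
  | add x y hx hy => simp only [map_add, Pi.add_apply, hx, hy]

theorem piRightHom_bijective_free (n : ℕ) :
    Function.Bijective (piRightHom R R (Fin n → R) Q) := by
  refine ⟨fun x y hxy => (finFunTensor n _).injective ?_, fun z => ?_⟩
  · funext k i
    rw [← finFunTensor_piRightHom, ← finFunTensor_piRightHom, hxy]
  · refine ⟨(finFunTensor n _).symm fun k i => finFunTensor n (Q i) (z i) k, funext fun i => ?_⟩
    refine (finFunTensor n _).injective (funext fun k => ?_)
    rw [finFunTensor_piRightHom, LinearEquiv.apply_symm_apply]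

theorem piRightHom_surjective_of_finite (P : Type u) [AddCommGroup P] [Module R P] [Module.Finite R P] :
    Function.Surjective (piRightHom R R P Q) := by
  obtain ⟨n, π, hπ⟩ := Module.Finite.exists_fin' R P
  intro z
  choose y hy using fun i => LinearMap.rTensor_surjective (Q i) hπ (z i)
  obtain ⟨x, hx⟩ := (piRightHom_bijective_free (Q := Q) n).2 y
  exact ⟨π.rTensor _ x, funext fun i => by rw [piRightHom_rTensor, hx, hy]⟩

theorem piRightHom_injective_of_fp (P : Type u) [AddCommGroup P] [Module R P]
    [Module.FinitePresentation R P] : Function.Injective (piRightHom R R P Q) := by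
  obtain ⟨n, K, e, hK⟩ := Module.FinitePresentation.exists_fin R P
  haveI : Module.Finite R K := Module.Finite.iff_fg.mpr hK
  let π : (Fin n → R) →ₗ[R] P := e.symm.toLinearMap ∘ₗ K.mkQ
  have hπ : Function.Surjective π := e.symm.surjective.comp K.mkQ_surjective
  have hex : Function.Exact K.subtype π := by
    intro v; simp [π, Submodule.Quotient.mk_eq_zero]
  rw [injective_iff_map_eq_zero]
  intro x hx
  obtain ⟨y, rfl⟩ := LinearMap.rTensor_surjective _ hπ x
  have h1 : ∀ i, ∃ k, K.subtype.rTensor (Q i) k = piRightHom R R _ Q y i := fun i => by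
    refine ((rTensor_exact (Q i) hex hπ) _).mp ?_
    rw [← piRightHom_rTensor, hx]; rfl
  choose k hk using h1
  obtain ⟨k', hk'⟩ := piRightHom_surjective_of_finite K k
  have : K.subtype.rTensor _ k' = y := (piRightHom_bijective_free n).1 (funext fun i => by
    rw [piRightHom_rTensor, hk', hk])
  rw [← this]
  exact (rTensor_exact _ hex hπ).apply_apply_eq_zero k'

end PiHom

section Dominate

variable {M N M' : Type u} [AddCommGroup M] [Module R M] [AddCommGroup N] [Module R N]
  [AddCommGroup M'] [Module R M'] {f : M →ₗ[R] N} {g : M →ₗ[R] M'}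

theorem dominates_of_comp {h : N →ₗ[R] M'} (hg : g = h ∘ₗ f) : Dominates R f g := by
  intro Q _ _ x hx
  simp only [LinearMap.mem_ker] at hx ⊢
  rw [hg, LinearMap.rTensor_comp_apply, hx, map_zero]

theorem comm_rTensor {A B C : Type u} [AddCommGroup A] [Module R A] [AddCommGroup B] [Module R B]
    [AddCommGroup C] [Module R C] (a : A →ₗ[R] B) (x : A ⊗[R] C) :
    TensorProduct.comm R B C (a.rTensor C x) = a.lTensor C (TensorProduct.comm R A C x) := by
  induction x using TensorProduct.induction_on with
  | zero => simp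
  | tmul m q => simp
  | add x y hx hy => simp only [map_add, hx, hy]

theorem rTensor_lTensor_comm {A B C D : Type u} [AddCommGroup A] [Module R A] [AddCommGroup B]
    [Module R B] [AddCommGroup C] [Module R C] [AddCommGroup D] [Module R D]
    (a : A →ₗ[R] B) (c : C →ₗ[R] D) (x : A ⊗[R] C) :
    a.rTensor D (c.lTensor A x) = c.lTensor B (a.rTensor C x) := by
  rw [← LinearMap.comp_apply, LinearMap.rTensor_comp_lTensor, ← LinearMap.lTensor_comp_rTensor,
    LinearMap.comp_apply]

theorem dominates_of_forall_fp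
    (h : ∀ (Q : Type u) [AddCommGroup Q] [Module R Q], Module.FinitePresentation R Q →
      LinearMap.ker (f.rTensor Q) ≤ LinearMap.ker (g.rTensor Q)) : Dominates R f g := by
  classical
  intro Q _ _ x hx
  rw [LinearMap.mem_ker] at hx ⊢
  let e := Colim.colimitEquiv (R := R) (M := Q)
  obtain ⟨i, y, hy⟩ := Colim.exists_rTensor_of
    (e.symm.toLinearMap.rTensor M (TensorProduct.comm R M Q x))
  have hfy : (Module.DirectLimit.of R _ _ Colim.stageMap i).rTensor N (f.lTensor _ y) = 0 := by
    rw [rTensor_lTensor_comm, hy, ← rTensor_lTensor_comm, ← comm_rTensor, hx, map_zero, map_zero]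
  obtain ⟨j, hij, hj⟩ := Colim.rTensor_of_zero_exact _ hfy
  rw [rTensor_lTensor_comm] at hj
  let z := (TensorProduct.comm R _ _).symm ((Colim.stageMap i j hij).rTensor M y)
  have hgy := h (Colim.Stage j) (Colim.stage_finitePresentation j) (x := z) (by
    rw [LinearMap.mem_ker]
    apply (TensorProduct.comm R _ _).injective
    rw [comm_rTensor, LinearEquiv.apply_symm_apply, hj, map_zero])
  rw [LinearMap.mem_ker] at hgy
  have hgy' : g.lTensor (Colim.Stage j) ((Colim.stageMap i j hij).rTensor M y) = 0 := by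
    rw [← LinearEquiv.apply_symm_apply (TensorProduct.comm R _ _)
      ((Colim.stageMap i j hij).rTensor M y), ← comm_rTensor, hgy, map_zero]
  apply (TensorProduct.comm R M' Q).injective
  apply (LinearEquiv.rTensor M' e.symm).injective
  rw [map_zero, map_zero, comm_rTensor]
  show e.symm.toLinearMap.rTensor M' (g.lTensor Q (TensorProduct.comm R M Q x)) = 0
  rw [rTensor_lTensor_comm, ← hy]
  have : (Module.DirectLimit.of R _ _ Colim.stageMap i).rTensor M y =
      (Module.DirectLimit.of R _ _ Colim.stageMap j).rTensor M ((Colim.stageMap i j hij).rTensor M y) := by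
    rw [← LinearMap.rTensor_comp_apply]
    congr 2
    ext v
    simp
  rw [this, ← rTensor_lTensor_comm, hgy', map_zero]

/-- If the cokernel of `f` is finitely presented, domination is factorisation. -/
theorem Dominates.exists_factor (hd : Dominates R f g)
    [Module.FinitePresentation R (N ⧸ LinearMap.range f)] : ∃ h : N →ₗ[R] M', g = h ∘ₗ f := by
  obtain ⟨m, K, e, hK⟩ := Module.FinitePresentation.exists_fin R (N ⧸ LinearMap.range f)
  obtain ⟨k, a, ha⟩ := Submodule.fg_iff_exists_fin_generating_family.mp hK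
  choose nn hnn using fun i : Fin m =>
    (LinearMap.range f).mkQ_surjective (e.symm (K.mkQ (Pi.single i 1)))
  let L : (Fin m → R) →ₗ[R] N := (Pi.basisFun R (Fin m)).constr R nn
  have hL : (LinearMap.range f).mkQ ∘ₗ L = e.symm.toLinearMap ∘ₗ K.mkQ :=
    (Pi.basisFun R (Fin m)).ext fun i => by simp [L, hnn]
  have hLa : ∀ j, ∃ x, f x = L (a j) := fun j => by
    have : a j ∈ K := ha ▸ Submodule.subset_span ⟨j, rfl⟩
    have h2 := LinearMap.congr_fun hL (a j)
    simp only [LinearMap.comp_apply, Submodule.mkQ_apply, (Submodule.Quotient.mk_eq_zero K).mpr this,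
      LinearEquiv.coe_coe, map_zero, Submodule.Quotient.mk_eq_zero] at h2
    exact h2
  choose x hx using hLa
  let T : (Fin m → R) →ₗ[R] (Fin k → R) := LinearMap.pi fun j => Fintype.linearCombination R (a j)
  let q : (Fin k → R) →ₗ[R] (Fin k → R) ⧸ LinearMap.range T := (LinearMap.range T).mkQ
  let z : M ⊗[R] ((Fin k → R) ⧸ LinearMap.range T) := ∑ j, x j ⊗ₜ q (Pi.single j 1)
  have hsum : ∀ (Y : Type u) [AddCommGroup Y] [Module R Y] (y : Fin m → Y),
      ∑ j, (Fintype.linearCombination R y (a j)) ⊗ₜ[R] q (Pi.single j 1) = 0 := by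
    intro Y _ _ y
    simp only [Fintype.linearCombination_apply, TensorProduct.sum_tmul, TensorProduct.smul_tmul]
    rw [Finset.sum_comm]
    refine Finset.sum_eq_zero fun i _ => ?_
    rw [← TensorProduct.tmul_sum]
    have : ∑ j, a j i • q (Pi.single j 1) = q (T (Pi.single i 1)) := by
      conv_rhs => rw [pi_eq_sum_univ' (T (Pi.single i 1)), map_sum]
      refine Finset.sum_congr rfl fun j _ => ?_
      rw [map_smul]
      simp [T, Fintype.linearCombination_apply_single]
    have h0 : q (T (Pi.single i 1)) = 0 :=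
      (Submodule.Quotient.mk_eq_zero _).mpr (LinearMap.mem_range_self T _)
    rw [this, h0, TensorProduct.tmul_zero]
  have hLlc : L = Fintype.linearCombination R nn :=
    (Pi.basisFun R (Fin m)).ext fun i => by simp [L, Fintype.linearCombination_apply_single]
  have hz : g.rTensor _ z = 0 := hd _ (by
    simp only [z, LinearMap.mem_ker, map_sum, LinearMap.rTensor_tmul, hx, hLlc]
    exact hsum N nn)
  -- solve the linear system in `M'`
  have hsys : ∃ y : Fin m → M', ∀ j, Fintype.linearCombination R y (a j) = g (x j) := by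
    have hex : Function.Exact T q := fun v => by simp [q, Submodule.Quotient.mk_eq_zero]
    have hw : q.lTensor M' (∑ j, g (x j) ⊗ₜ (Pi.single j (1 : R))) = 0 := by
      simpa [z] using hz
    obtain ⟨w, hw⟩ := ((lTensor_exact M' hex (LinearMap.range T).mkQ_surjective) _).mp hw
    let c := TensorProduct.piScalarRight R R M' (Fin k)
    refine ⟨fun i => TensorProduct.piScalarRight R R M' (Fin m) w i, fun j => ?_⟩
    have h3 := congrFun (congrArg c hw) j
    have h4 : c (∑ j, g (x j) ⊗ₜ (Pi.single j (1 : R))) j = g (x j) := by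
      simp [c, Pi.single_apply]
    rw [h4] at h3
    rw [← h3]
    clear hw h3 h4
    induction w using TensorProduct.induction_on with
    | zero => simp [Fintype.linearCombination_apply]
    | tmul y r =>
      simp [c, T, Fintype.linearCombination_apply, Finset.sum_smul, smul_smul, mul_comm]
    | add u v hu hv =>
      simp only [map_add, Pi.add_apply, Fintype.linearCombination_apply, smul_add,
        Finset.sum_add_distrib] at hu hv ⊢
      rw [hu, hv]
  obtain ⟨y, hy⟩ := hsys
  let F : M × (Fin m → R) →ₗ[R] N := f.coprod L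
  let G : M × (Fin m → R) →ₗ[R] M' := g.coprod (Fintype.linearCombination R y)
  have hF : Function.Surjective F := fun n => by
    obtain ⟨v, hv⟩ := K.mkQ_surjective (e ((LinearMap.range f).mkQ n))
    have : n - L v ∈ LinearMap.range f := by
      rw [← Submodule.Quotient.mk_eq_zero, Submodule.Quotient.mk_sub, sub_eq_zero]
      refine .trans ?_ (LinearMap.congr_fun hL v).symm
      simp [LinearMap.comp_apply, hv]
    obtain ⟨u, hu⟩ := this
    exact ⟨(u, v), by simp [F, hu]⟩
  have hinj : LinearMap.ker f ≤ LinearMap.ker g := by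
    intro u hu
    have h5 := hd R (x := u ⊗ₜ (1 : R)) (by simp [LinearMap.mem_ker.mp hu])
    have h6 := congrArg (TensorProduct.rid R M') (LinearMap.mem_ker.mp h5)
    simpa using h6
  have hker : LinearMap.ker F ≤ LinearMap.ker G := by
    rintro ⟨u, v⟩ huv
    simp only [F, G, LinearMap.mem_ker, LinearMap.coprod_apply] at huv ⊢
    have hv : v ∈ K := by
      have h7 := LinearMap.congr_fun hL v
      have h8 : (LinearMap.range f).mkQ (L v) = 0 := by
        rw [Submodule.mkQ_apply, Submodule.Quotient.mk_eq_zero]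
        exact ⟨-u, by rw [map_neg, neg_eq_iff_add_eq_zero]; exact huv⟩
      simp only [LinearMap.comp_apply, h8, LinearEquiv.coe_coe] at h7
      rwa [eq_comm, LinearEquiv.map_eq_zero_iff, Submodule.mkQ_apply, Submodule.Quotient.mk_eq_zero] at h7
    rw [← ha, Submodule.mem_span_range_iff_exists_fun] at hv
    obtain ⟨b, rfl⟩ := hv
    simp only [map_sum, map_smul, hy] at huv ⊢
    have : u + ∑ j, b j • x j ∈ LinearMap.ker f := by
      simpa [hx] using huv
    simpa using hinj this
  obtain ⟨h, hh⟩ : ∃ h : N →ₗ[R] M', h ∘ₗ F = G :=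
    ⟨(LinearMap.ker F).liftQ G hker ∘ₗ (F.quotKerEquivOfSurjective hF).symm.toLinearMap,
      LinearMap.ext fun p => by
        have : (F.quotKerEquivOfSurjective hF).symm (F p) = Submodule.Quotient.mk p := by
          rw [LinearEquiv.symm_apply_eq]; rfl
        simp [this]⟩
  exact ⟨h, LinearMap.ext fun u => by simpa [F, G] using (LinearMap.congr_fun hh (u, 0)).symm⟩

end Dominate

/-- A map out of a finitely presented module kills a given tensor after factoring through a
finitely presented module. -/
theorem exists_fp_factor {P M Q : Type u} [AddCommGroup P] [Module R P] [Module.FinitePresentation R P]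
    [AddCommGroup M] [Module R M] [AddCommGroup Q] [Module R Q] (f : P →ₗ[R] M) (x : P ⊗[R] Q)
    (hx : f.rTensor Q x = 0) :
    ∃ (P' : Type u) (_ : AddCommGroup P') (_ : Module R P') (_ : Module.FinitePresentation R P')
      (f' : P →ₗ[R] P') (h : P' →ₗ[R] M), f = h ∘ₗ f' ∧ f'.rTensor Q x = 0 := by
  classical
  let e := Colim.colimitEquiv (R := R) (M := M)
  obtain ⟨i, ψ, hψ⟩ := Colim.exists_lift_fp (e.symm.toLinearMap ∘ₗ f)
  have h0 : (Module.DirectLimit.of R _ _ Colim.stageMap i).rTensor Q (ψ.rTensor Q x) = 0 := by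
    rw [← LinearMap.rTensor_comp_apply, hψ, LinearMap.rTensor_comp_apply, hx, map_zero]
  obtain ⟨j, hij, hj⟩ := Colim.rTensor_of_zero_exact _ h0
  refine ⟨Colim.Stage j, inferInstance, inferInstance, Colim.stage_finitePresentation j,
    Colim.stageMap i j hij ∘ₗ ψ, e.toLinearMap ∘ₗ Module.DirectLimit.of R _ _ Colim.stageMap j, ?_, ?_⟩
  · ext p
    have := LinearMap.congr_fun hψ p
    simp only [LinearMap.comp_apply, LinearEquiv.coe_coe, Module.DirectLimit.of_f] at this ⊢
    rw [this, LinearEquiv.apply_symm_apply]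
  · rw [LinearMap.rTensor_comp_apply, hj]

section Criteria

variable {M : Type u} [AddCommGroup M] [Module R M]

theorem rTensor_eq_zero_of_forall (hM : CAlg.IsMittagLeffler R M) {P : Type u} [AddCommGroup P]
    [Module R P] (f : P →ₗ[R] M) {ι : Type u} {Q : ι → Type u} [∀ i, AddCommGroup (Q i)]
    [∀ i, Module R (Q i)] (x : P ⊗[R] (Π i, Q i))
    (h : ∀ i, f.rTensor (Q i) (piRightHom R R P Q x i) = 0) : f.rTensor _ x = 0 := by
  apply hM ι Q
  rw [map_zero]
  funext i
  rw [piRightHom_rTensor, h, Pi.zero_apply]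

theorem exists_fp_factor_family (hM : CAlg.IsMittagLeffler R M) {P : Type u} [AddCommGroup P]
    [Module R P] [Module.FinitePresentation R P] (f : P →ₗ[R] M) {ι : Type u} {Q : ι → Type u}
    [∀ i, AddCommGroup (Q i)] [∀ i, Module R (Q i)] (x : ∀ i, P ⊗[R] Q i)
    (hx : ∀ i, f.rTensor (Q i) (x i) = 0) :
    ∃ (P' : Type u) (_ : AddCommGroup P') (_ : Module R P') (_ : Module.FinitePresentation R P')
      (g : P →ₗ[R] P') (h : P' →ₗ[R] M), f = h ∘ₗ g ∧ ∀ i, g.rTensor (Q i) (x i) = 0 := by
  obtain ⟨y, hy⟩ := piRightHom_surjective_of_finite (Q := Q) P x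
  obtain ⟨P', _, _, hP', g, h, hfg, hg⟩ := exists_fp_factor f y
    (rTensor_eq_zero_of_forall hM f y fun i => by rw [hy]; exact hx i)
  refine ⟨P', _, _, hP', g, h, hfg, fun i => ?_⟩
  rw [← hy, ← piRightHom_rTensor, hg, map_zero, Pi.zero_apply]

/-- In a Mittag-Leffler module every map from a finitely presented module factors through a
finitely presented module as a dominating map. -/
theorem exists_factor_dominates (hM : CAlg.IsMittagLeffler R M) {P : Type u} [AddCommGroup P]
    [Module R P] [Module.FinitePresentation R P] (f : P →ₗ[R] M) :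
    ∃ (P' : Type u) (_ : AddCommGroup P') (_ : Module R P') (_ : Module.FinitePresentation R P')
      (g : P →ₗ[R] P') (h : P' →ₗ[R] M), f = h ∘ₗ g ∧ Dominates R f g := by
  obtain ⟨P', _, _, hP', g, h, hfg, hg⟩ := exists_fp_factor_family hM f
    (Q := fun j : (Σ n : ℕ, Σ K : Submodule R (Fin n → R),
      {x : P ⊗[R] ((Fin n → R) ⧸ K) // f.rTensor _ x = 0}) => (Fin j.1 → R) ⧸ j.2.1)
    (fun j => j.2.2.1) (fun j => j.2.2.2)
  refine ⟨P', _, _, hP', g, h, hfg, dominates_of_forall_fp fun Q₀ _ _ _ z hz => ?_⟩
  obtain ⟨n, K, e, -⟩ := Module.FinitePresentation.exists_fin R Q₀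
  have hz' : f.rTensor ((Fin n → R) ⧸ K) (e.toLinearMap.lTensor P z) = 0 := by
    rw [rTensor_lTensor_comm, LinearMap.mem_ker.mp hz, map_zero]
  have hj : g.rTensor ((Fin n → R) ⧸ K) (e.toLinearMap.lTensor P z) = 0 :=
    hg ⟨n, K, ⟨_, hz'⟩⟩
  rw [rTensor_lTensor_comm] at hj
  rw [LinearMap.mem_ker]
  exact (LinearEquiv.lTensor P' e).injective (hj.trans (map_zero _).symm)

theorem exists_mutual_dominates (hM : CAlg.IsMittagLeffler R M) {P : Type u} [AddCommGroup P]
    [Module R P] [Module.FinitePresentation R P] (f : P →ₗ[R] M) :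
    ∃ (P' : Type u) (_ : AddCommGroup P') (_ : Module R P') (_ : Module.FinitePresentation R P')
      (g : P →ₗ[R] P'), ∀ (N : Type u) [AddCommGroup N] [Module R N],
        LinearMap.ker (f.rTensor N) = LinearMap.ker (g.rTensor N) := by
  obtain ⟨P', _, _, hP', g, h, hfg, hd⟩ := exists_factor_dominates hM f
  exact ⟨P', _, _, hP', g, fun N _ _ => le_antisymm (hd N) (dominates_of_comp hfg N)⟩

/-- Criterion: maps from finite free modules are dominated by maps into finitely presented ones. -/
theorem isMittagLeffler_of_dominates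
    (h : ∀ (n : ℕ) (f : (Fin n → R) →ₗ[R] M),
      ∃ (Q : Type u) (_ : AddCommGroup Q) (_ : Module R Q) (_ : Module.FinitePresentation R Q)
        (g : (Fin n → R) →ₗ[R] Q), ∀ (N : Type u) [AddCommGroup N] [Module R N],
          LinearMap.ker (f.rTensor N) = LinearMap.ker (g.rTensor N)) :
    CAlg.IsMittagLeffler R M := by
  intro ι Q _ _
  rw [injective_iff_map_eq_zero]
  intro x hx
  obtain ⟨J, hJ, y, rfl⟩ := Submodule.exists_fg_le_eq_rTensor_subtype (R := R) x
  haveI : Module.Finite R J := Module.Finite.iff_fg.mpr hJ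
  obtain ⟨n, π, hπ⟩ := Module.Finite.exists_fin' R J
  obtain ⟨w, rfl⟩ := LinearMap.rTensor_surjective _ hπ y
  rw [← LinearMap.rTensor_comp_apply] at hx ⊢
  obtain ⟨P, _, _, _, g, hg⟩ := h n (J.subtype ∘ₗ π)
  rw [← LinearMap.mem_ker, hg, LinearMap.mem_ker]
  apply piRightHom_injective_of_fp P
  rw [map_zero]
  funext i
  rw [piRightHom_rTensor, Pi.zero_apply, ← LinearMap.mem_ker, ← hg, LinearMap.mem_ker,
    ← piRightHom_rTensor, hx, Pi.zero_apply]

theorem isMittagLeffler_of_fp [Module.FinitePresentation R M] : CAlg.IsMittagLeffler R M :=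
  fun _ _ _ _ => piRightHom_injective_of_fp M

theorem isMittagLeffler_of_universallyInjective {N : Type u} [AddCommGroup N] [Module R N]
    (f : M →ₗ[R] N) (hf : CAlgX.UniversallyInjective R f) (hN : CAlg.IsMittagLeffler R N) :
    CAlg.IsMittagLeffler R M := by
  intro ι Q _ _
  rw [injective_iff_map_eq_zero]
  intro x hx
  apply hf _
  rw [map_zero]
  apply hN ι Q
  funext i
  rw [piRightHom_rTensor, hx, Pi.zero_apply, map_zero, map_zero, Pi.zero_apply]

theorem isMittagLeffler_congr {N : Type u} [AddCommGroup N] [Module R N] (e : M ≃ₗ[R] N)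
    (hM : CAlg.IsMittagLeffler R M) : CAlg.IsMittagLeffler R N :=
  isMittagLeffler_of_universallyInjective e.symm.toLinearMap
    (fun Q _ _ => (LinearEquiv.rTensor Q e.symm).injective) hM

end Criteria

end Groth.Agent.MLMod
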