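import Groth.Agent.MLMod.Basic

/-!
Countably generated Mittag-Leffler colimits.
-/

set_option autoImplicit false
set_option linter.style.haveILetI false
open TensorProduct

universe u

namespace Groth.Agent.MLMod

variable {R : Type u} [CommRing R] {ι : Type u} [Preorder ι] [IsDirectedOrder ι] [Nonempty ι]
  [DecidableEq ι] {G : ι → Type u} [∀ i, AddCommGroup (G i)] [∀ i, Module R (G i)]
  [∀ i, Module.FinitePresentation R (G i)] {f : ∀ i j, i ≤ j → G i →ₗ[R] G j}
  [DirectedSystem G fun i j h => f i j h]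

/-- The Mittag-Leffler property of a system of finitely presented modules. -/
theorem exists_stable_index (hM : CAlg.IsMittagLeffler R (Module.DirectLimit G f)) (i : ι) :
    ∃ j, ∃ hij : i ≤ j, ∀ (k : ι) (hik : i ≤ k), ∃ h : G k →ₗ[R] G j, f i j hij = h ∘ₗ f i k hik := by
  obtain ⟨P', _, _, _, g, h, hfg, hd⟩ :=
    exists_factor_dominates hM (Module.DirectLimit.of R ι G f i)
  obtain ⟨j, ψ, hψ⟩ := Colim.exists_lift_fp h
  obtain ⟨k, hik, hjk⟩ := exists_ge_ge i j
  have hk : Module.DirectLimit.of R ι G f k ∘ₗ (f j k hjk ∘ₗ ψ ∘ₗ g) =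
      Module.DirectLimit.of R ι G f k ∘ₗ f i k hik := by
    ext x
    have h1 := LinearMap.congr_fun hψ (g x)
    have h2 := LinearMap.congr_fun hfg x
    simp only [LinearMap.comp_apply, Module.DirectLimit.of_f] at h1 h2 ⊢
    rw [h1, ← h2]
  obtain ⟨l, hkl, hl⟩ := Colim.exists_comp_eq_of_fg _ _ hk
  refine ⟨l, hik.trans hkl, fun m him => ?_⟩
  have hil : f i l (hik.trans hkl) = f k l hkl ∘ₗ f i k hik := by
    ext x
    exact (DirectedSystem.map_map (f := fun i j h => f i j h) hik hkl x).symm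
  have hdom : Dominates R (f i m him) (f i l (hik.trans hkl)) := by
    intro Q _ _ x hx
    have h1 : (Module.DirectLimit.of R ι G f i).rTensor Q x = 0 := by
      have : Module.DirectLimit.of R ι G f i = Module.DirectLimit.of R ι G f m ∘ₗ f i m him := by
        ext x; simp
      rw [this, LinearMap.rTensor_comp_apply, LinearMap.mem_ker.mp hx, map_zero]
    have h2 : g.rTensor Q x = 0 := hd Q h1
    rw [LinearMap.mem_ker, hil, ← hl]
    simp only [LinearMap.rTensor_comp_apply, h2, map_zero]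
  haveI : Module.FinitePresentation R (G m ⧸ LinearMap.range (f i m him)) :=
    Module.finitePresentation_of_surjective (LinearMap.range (f i m him)).mkQ
      (Submodule.mkQ_surjective _) (by
        rw [Submodule.ker_mkQ, LinearMap.range_eq_map]
        exact Module.Finite.fg_top.map _)
  exact hdom.exists_factor

theorem isMittagLeffler_of_stable
    (h : ∀ i, ∃ (j : ι) (hij : i ≤ j), ∀ (k : ι) (hik : i ≤ k),
      ∃ h : G k →ₗ[R] G j, f i j hij = h ∘ₗ f i k hik) :
    CAlg.IsMittagLeffler R (Module.DirectLimit G f) := by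
  refine isMittagLeffler_of_dominates fun n φ => ?_
  obtain ⟨i, ψ, rfl⟩ := Colim.exists_lift_free φ
  obtain ⟨j, hij, hj⟩ := h i
  refine ⟨G j, inferInstance, inferInstance, inferInstance, f i j hij ∘ₗ ψ,
    fun N _ _ => le_antisymm ?_ ?_⟩
  · intro x hx
    rw [LinearMap.mem_ker, LinearMap.rTensor_comp_apply] at hx ⊢
    obtain ⟨k, hik, hk⟩ := Colim.rTensor_of_zero_exact _ hx
    obtain ⟨q, hq⟩ := hj k hik
    rw [hq, LinearMap.rTensor_comp_apply, hk, map_zero]
  · refine dominates_of_comp (h := Module.DirectLimit.of R ι G f j) ?_ N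
    ext x; simp

/-- A cofinal-for-the-colimit sequence of stable indices. -/
theorem exists_stable_seq (hM : CAlg.IsMittagLeffler R (Module.DirectLimit G f))
    (hc : CAlg.IsCountablyGenerated R (Module.DirectLimit G f)) (i₀ : ι) :
    ∃ a : ℕ → ι, ∃ ha : Monotone a, i₀ ≤ a 0 ∧
      (∀ x : Module.DirectLimit G f, ∃ n y, Module.DirectLimit.of R ι G f (a n) y = x) ∧
      ∀ (n : ℕ) (k : ι) (hk : a n ≤ k),
        ∃ h : G k →ₗ[R] G (a (n + 1)), f (a n) (a (n + 1)) (ha n.le_succ) = h ∘ₗ f (a n) k hk := by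
  obtain ⟨s, hs, hspan⟩ := hc
  obtain ⟨e, he⟩ := (hs.insert 0).exists_eq_range (Set.insert_nonempty _ _)
  choose idx g hg using fun n => Module.DirectLimit.exists_of (e n)
  choose J hJle hJ using exists_stable_index hM
  let next : ℕ → ι → ι := fun n i => (exists_ge_ge (J i) (idx n)).choose
  have hnext : ∀ n i, J i ≤ next n i ∧ idx n ≤ next n i := fun n i =>
    (exists_ge_ge (J i) (idx n)).choose_spec
  let a : ℕ → ι := fun n => Nat.rec i₀ (fun m i => next m i) n
  have ha : Monotone a := monotone_nat_of_le_succ fun n => (hJle (a n)).trans (hnext n (a n)).1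
  refine ⟨a, ha, le_rfl, fun x => ?_, fun n k hk => ?_⟩
  · have hx : x ∈ Submodule.span R (insert 0 s) := by
      rw [Submodule.span_insert_zero, hspan]; exact Submodule.mem_top
    rw [he] at hx
    induction hx using Submodule.span_induction with
    | mem y hy =>
      obtain ⟨n, rfl⟩ := hy
      exact ⟨n + 1, f (idx n) _ (hnext n (a n)).2 (g n), by rw [Module.DirectLimit.of_f, hg]⟩
    | zero => exact ⟨0, 0, map_zero _⟩
    | add y z _ _ hy hz =>
      obtain ⟨n, y, rfl⟩ := hy
      obtain ⟨m, z, rfl⟩ := hz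
      exact ⟨max n m, f _ _ (ha (le_max_left n m)) y + f _ _ (ha (le_max_right n m)) z, by
        simp only [map_add, Module.DirectLimit.of_f]⟩
    | smul r y _ hy =>
      obtain ⟨n, y, rfl⟩ := hy
      exact ⟨n, r • y, map_smul _ _ _⟩
  · obtain ⟨h, hh⟩ := hJ (a n) k hk
    refine ⟨f (J (a n)) (a (n + 1)) (hnext n (a n)).1 ∘ₗ h, ?_⟩
    rw [LinearMap.comp_assoc, ← hh]
    ext x
    exact (DirectedSystem.map_map (f := fun i j h => f i j h) (hJle (a n)) (hnext n (a n)).1 x).symm

theorem exists_countable_subcolimit (hM : CAlg.IsMittagLeffler R (Module.DirectLimit G f))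
    (hc : CAlg.IsCountablyGenerated R (Module.DirectLimit G f)) :
    ∃ I' : Set ι, I'.Countable ∧ DirectedOn (· ≤ ·) I' ∧
      Function.Bijective (Module.DirectLimit.lift R I' (fun i : I' => G i.1)
        (fun (i j : I') (h : i ≤ j) => f i.1 j.1 h)
        (fun i : I' => Module.DirectLimit.of R ι G f i.1)
        (fun (i j : I') (h : i ≤ j) (x : G i.1) => Module.DirectLimit.of_f)) := by
  obtain ⟨a, ha, -, hgen, hstab⟩ := exists_stable_seq hM hc (Classical.arbitrary ι)
  have hdir : DirectedOn (· ≤ ·) (Set.range a) := by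
    rintro _ ⟨n, rfl⟩ _ ⟨m, rfl⟩
    exact ⟨a (max n m), ⟨_, rfl⟩, ha (le_max_left _ _), ha (le_max_right _ _)⟩
  haveI : IsDirectedOrder (Set.range a) := ⟨fun x y => by
    obtain ⟨z, hz, h1, h2⟩ := hdir x.1 x.2 y.1 y.2
    exact ⟨⟨z, hz⟩, h1, h2⟩⟩
  haveI : Nonempty (Set.range a) := ⟨⟨a 0, 0, rfl⟩⟩
  refine ⟨Set.range a, Set.countable_range a, hdir, ?_, fun x => ?_⟩
  · rw [injective_iff_map_eq_zero]
    intro z hz
    obtain ⟨⟨_, n, rfl⟩, y, rfl⟩ := Module.DirectLimit.exists_of z
    rw [Module.DirectLimit.lift_of] at hz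
    obtain ⟨k, hk, hk0⟩ := Module.DirectLimit.of.zero_exact hz
    obtain ⟨h, hh⟩ := hstab n k hk
    have h0 : f (a n) (a (n + 1)) (ha n.le_succ) y = 0 := by
      rw [hh, LinearMap.comp_apply, hk0, map_zero]
    rw [← Module.DirectLimit.of_f (i := (⟨a n, n, rfl⟩ : Set.range a))
      (j := ⟨a (n + 1), n + 1, rfl⟩) (hij := ha n.le_succ)]
    exact (congrArg _ h0).trans (map_zero _)
  · obtain ⟨n, y, rfl⟩ := hgen x
    exact ⟨Module.DirectLimit.of R _ _ _ ⟨a n, n, rfl⟩ y, Module.DirectLimit.lift_of _ _ _⟩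

theorem exists_endo_factor_colim (hM : CAlg.IsMittagLeffler R (Module.DirectLimit G f))
    (hc : CAlg.IsCountablyGenerated R (Module.DirectLimit G f)) {P : Type u} [AddCommGroup P]
    [Module R P] [Module.Finite R P] (φ : P →ₗ[R] Module.DirectLimit G f) :
    ∃ (Q : Type u) (_ : AddCommGroup Q) (_ : Module R Q) (_ : Module.FinitePresentation R Q)
      (b : Module.DirectLimit G f →ₗ[R] Q) (c : Q →ₗ[R] Module.DirectLimit G f),
      (c ∘ₗ b) ∘ₗ φ = φ := by
  obtain ⟨m, π, hπ⟩ := Module.Finite.exists_fin' R P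
  obtain ⟨i₀, ψ₀, hψ₀⟩ := Colim.exists_lift_free (φ ∘ₗ π)
  obtain ⟨a, ha, hi₀, hgen, hstab⟩ := exists_stable_seq hM hc i₀
  -- maps `σ n : G (a (n+1)) → G (a 1)`
  let σ : ∀ n, G (a (n + 1)) →ₗ[R] G (a 1) := fun n => Nat.rec LinearMap.id
    (fun n s => s ∘ₗ (hstab n (a (n + 2)) (ha (Nat.le_add_right n 2))).choose) n
  have hσ : ∀ n, σ (n + 1) ∘ₗ f (a n) (a (n + 2)) (ha (Nat.le_add_right n 2)) =
      σ n ∘ₗ f (a n) (a (n + 1)) (ha n.le_succ) := fun n => by
    show (σ n ∘ₗ _) ∘ₗ _ = _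
    rw [LinearMap.comp_assoc, ← (hstab n (a (n + 2)) (ha (Nat.le_add_right n 2))).choose_spec]
  let τ : ∀ n, G (a n) →ₗ[R] G (a 1) := fun n => σ n ∘ₗ f (a n) (a (n + 1)) (ha n.le_succ)
  have hτ : ∀ n x, τ (n + 1) (f (a n) (a (n + 1)) (ha n.le_succ) x) = τ n x := fun n x => by
    show σ (n + 1) (f _ _ _ (f _ _ _ x)) = τ n x
    rw [DirectedSystem.map_map (f := fun i j h => f i j h)]
    exact LinearMap.congr_fun (hσ n) x
  have hτ' : ∀ n m (h : n ≤ m) (x : G (a n)), τ m (f (a n) (a m) (ha h) x) = τ n x := by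
    intro n m h x
    induction m, h using Nat.le_induction with
    | base => rw [DirectedSystem.map_self (f := fun i j h => f i j h)]
    | succ m hnm ih =>
      rw [← ih, ← hτ m, DirectedSystem.map_map (f := fun i j h => f i j h)]
  have hwd : ∀ n m (y : G (a n)) (z : G (a m)),
      Module.DirectLimit.of R ι G f (a n) y = Module.DirectLimit.of R ι G f (a m) z →
      τ n y = τ m z := by
    intro n m y z hyz
    let N := max n m
    have h0 : Module.DirectLimit.of R ι G f (a N)
        (f _ _ (ha (le_max_left n m)) y - f _ _ (ha (le_max_right n m)) z) = 0 := by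
      rw [map_sub, Module.DirectLimit.of_f, Module.DirectLimit.of_f, hyz, sub_self]
    obtain ⟨k, hk, hk0⟩ := Module.DirectLimit.of.zero_exact h0
    obtain ⟨h, hh⟩ := hstab N k hk
    have h1 : τ N (f _ _ (ha (le_max_left n m)) y - f _ _ (ha (le_max_right n m)) z) = 0 := by
      show σ N (f _ _ _ _) = 0
      rw [hh, LinearMap.comp_apply, hk0, map_zero, map_zero]
    rw [map_sub, hτ' n N (le_max_left n m), hτ' m N (le_max_right n m), sub_eq_zero] at h1
    exact h1
  choose n y hy using hgen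
  let b : Module.DirectLimit G f →ₗ[R] G (a 1) :=
    { toFun := fun x => τ (n x) (y x)
      map_add' := fun u v => by
        let N := max (n u) (n v)
        rw [← hτ' _ N (le_max_left _ _) (y u), ← hτ' _ N (le_max_right _ _) (y v), ← map_add]
        refine hwd _ _ _ _ ?_
        rw [hy, map_add, Module.DirectLimit.of_f, Module.DirectLimit.of_f, hy, hy]
      map_smul' := fun r u => by
        rw [RingHom.id_apply, ← map_smul]
        exact hwd _ _ _ _ (by rw [hy, map_smul, hy]) }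
  refine ⟨G (a 1), inferInstance, inferInstance, inferInstance, b, Module.DirectLimit.of R ι G f (a 1),
    LinearMap.ext fun p => ?_⟩
  obtain ⟨v, rfl⟩ := hπ p
  have h1 : Module.DirectLimit.of R ι G f (a 0) (f i₀ (a 0) hi₀ (ψ₀ v)) = φ (π v) := by
    rw [Module.DirectLimit.of_f]
    exact LinearMap.congr_fun hψ₀ v
  show Module.DirectLimit.of R ι G f (a 1) (τ (n (φ (π v))) (y (φ (π v)))) = φ (π v)
  rw [hwd _ 0 _ (f i₀ (a 0) hi₀ (ψ₀ v)) (by rw [hy, h1])]
  show Module.DirectLimit.of R ι G f (a 1) (f (a 0) (a 1) (ha zero_le_one) (f i₀ (a 0) hi₀ (ψ₀ v))) = φ (π v)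
  rw [Module.DirectLimit.of_f, h1]

end Groth.Agent.MLMod
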