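import Groth.Agent.MLMod.Basic
import Mathlib.RingTheory.TensorProduct.Maps
import Mathlib.LinearAlgebra.TensorProduct.Tower

/-!
Mittag-Leffler modules and change of rings.
-/

set_option autoImplicit false
set_option linter.style.haveILetI false
open TensorProduct

universe u

namespace Groth.Agent.MLMod

variable {R S : Type u} [CommRing R] [CommRing S] [Algebra R S]

theorem isMittagLeffler_baseChange {M : Type u} [AddCommGroup M] [Module R M]
    (hM : CAlg.IsMittagLeffler R M) : CAlg.IsMittagLeffler S (S ⊗[R] M) := by
  intro ι Q _ _
  letI : ∀ i, Module R (Q i) := fun i => Module.compHom (Q i) (algebraMap R S)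
  haveI : ∀ i, IsScalarTower R S (Q i) := fun i => IsScalarTower.of_algebraMap_smul fun _ _ => rfl
  let θ : ∀ (N : Type u) [AddCommGroup N] [Module R N] [Module S N] [IsScalarTower R S N],
      (S ⊗[R] M) ⊗[S] N ≃+ M ⊗[R] N := fun N _ _ _ _ =>
    ((TensorProduct.comm S (S ⊗[R] M) N).toAddEquiv.trans
      (AlgebraTensorModule.cancelBaseChange R S S N M).toAddEquiv).trans
      (TensorProduct.comm R N M).toAddEquiv
  have key : ∀ x i, θ (Q i) (TensorProduct.piRightHom S S (S ⊗[R] M) Q x i) =
      TensorProduct.piRightHom R R M Q (θ (Π i, Q i) x) i := by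
    intro x i
    induction x using TensorProduct.induction_on with
    | zero => simp
    | tmul m q =>
      induction m using TensorProduct.induction_on with
      | zero => simp
      | tmul s m =>
        simp [θ, AlgebraTensorModule.cancelBaseChange_tmul]
      | add a b ha hb => simp only [TensorProduct.add_tmul, map_add, Pi.add_apply, ha, hb]
    | add a b ha hb => simp only [map_add, Pi.add_apply, ha, hb]
  intro x y hxy
  apply (θ (Π i, Q i)).injective
  apply hM ι Q
  funext i
  rw [← key, ← key, hxy]

theorem isMittagLeffler_restrictScalars {M : Type u} [AddCommGroup M] [Module S M] [Module R M]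
    [IsScalarTower R S M] (hM : CAlg.IsMittagLeffler S M)
    (hinj : ∀ (ι : Type u) (Q : ι → Type u) [∀ i, AddCommGroup (Q i)] [∀ i, Module R (Q i)],
      Function.Injective ((TensorProduct.piRightHom R S S Q).lTensor M)) :
    CAlg.IsMittagLeffler R M := by
  intro ι Q _ _
  let η : ∀ (N : Type u) [AddCommGroup N] [Module R N], M ⊗[R] N ≃+ M ⊗[S] (S ⊗[R] N) := fun N _ _ =>
    (AlgebraTensorModule.cancelBaseChange R S S M N).symm.toAddEquiv
  have key : ∀ x i, η (Q i) (TensorProduct.piRightHom R R M Q x i) =
      TensorProduct.piRightHom S S M (fun i => S ⊗[R] Q i)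
        ((TensorProduct.piRightHom R S S Q).lTensor M (η (Π i, Q i) x)) i := by
    intro x i
    induction x using TensorProduct.induction_on with
    | zero => simp
    | tmul m q => simp [η]
    | add a b ha hb => simp only [map_add, Pi.add_apply, ha, hb]
  intro x y hxy
  apply (η (Π i, Q i)).injective
  apply hinj ι Q
  apply hM ι (fun i => S ⊗[R] Q i)
  funext i
  rw [← key, ← key, hxy]

theorem isMittagLeffler_restrictScalars_of_flat {M : Type u} [AddCommGroup M] [Module S M]
    [Module R M] [IsScalarTower R S M] [Module.Flat S M] (hS : CAlg.IsMittagLeffler R S)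
    (hM : CAlg.IsMittagLeffler S M) : CAlg.IsMittagLeffler R M :=
  isMittagLeffler_restrictScalars hM fun ι Q _ _ =>
    Module.Flat.lTensor_preserves_injective_linearMap _ (by
      intro x y hxy
      exact hS ι Q hxy)

theorem isMittagLeffler_restrictScalars_of_fp {M : Type u} [AddCommGroup M] [Module S M]
    [Module R M] [IsScalarTower R S M] [Module.FinitePresentation R S]
    (hM : CAlg.IsMittagLeffler S M) : CAlg.IsMittagLeffler R M :=
  isMittagLeffler_restrictScalars hM fun ι Q _ _ => by
    have hb : Function.Bijective (TensorProduct.piRightHom R S S Q) :=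
      ⟨fun x y hxy => piRightHom_injective_of_fp (R := R) (Q := Q) S hxy,
        fun z => piRightHom_surjective_of_finite (R := R) (Q := Q) S z⟩
    exact (LinearEquiv.lTensor M (LinearEquiv.ofBijective _ hb)).injective

end Groth.Agent.MLMod
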