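import Groth.Agent.MLMod.Basic
import Mathlib.RingTheory.Flat.Basic

/-!
Flat Mittag-Leffler modules: smallest submodules containing a tensor.
-/

set_option autoImplicit false
set_option linter.style.haveILetI false
open TensorProduct

universe u

namespace Groth.Agent.MLMod

variable {R : Type u} [CommRing R] {M : Type u} [AddCommGroup M] [Module R M]

theorem mem_range_of_rTensor_eq_zero [Module.Flat R M] {F G : Type u} [AddCommGroup F] [Module R F]
    [AddCommGroup G] [Module R G] (φ : F →ₗ[R] G) (x : F ⊗[R] M) (hx : φ.rTensor M x = 0) :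
    x ∈ LinearMap.range ((LinearMap.ker φ).subtype.rTensor M) := by
  have hinj : Function.Injective (((LinearMap.ker φ).liftQ φ le_rfl).rTensor M) :=
    Module.Flat.rTensor_preserves_injective_linearMap _ (LinearMap.ker_eq_bot.mp
      (Submodule.ker_liftQ_eq_bot _ _ le_rfl le_rfl))
  have h0 : (LinearMap.ker φ).mkQ.rTensor M x = 0 := hinj (by
    rw [map_zero, ← LinearMap.rTensor_comp_apply, Submodule.liftQ_mkQ, hx])
  exact ((rTensor_exact M (LinearMap.exact_subtype_mkQ _) (Submodule.mkQ_surjective _)) x).mp h0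

theorem exists_smallest [Module.Flat R M] (hM : CAlg.IsMittagLeffler R M) {F : Type u}
    [AddCommGroup F] [Module R F] (x : F ⊗[R] M) :
    ∃ F' : Submodule R F, F'.FG ∧ x ∈ LinearMap.range (F'.subtype.rTensor M) ∧
      ∀ F'' : Submodule R F, x ∈ LinearMap.range (F''.subtype.rTensor M) → F' ≤ F'' := by
  let J := {F'' : Submodule R F // x ∈ LinearMap.range (F''.subtype.rTensor M)}
  let φ : F →ₗ[R] Π i : J, F ⧸ i.1 := LinearMap.pi fun i => i.1.mkQ
  have h0 : φ.rTensor M x = 0 := by
    apply (TensorProduct.comm R _ M).injective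
    refine hM J (fun i => F ⧸ i.1) ?_
    funext i
    rw [map_zero, map_zero, Pi.zero_apply, piRightHom_apply_eq_lTensor, comm_rTensor,
      ← LinearMap.lTensor_comp_apply, show LinearMap.proj i ∘ₗ φ = i.1.mkQ from rfl, ← comm_rTensor]
    obtain ⟨y, hy⟩ := i.2
    refine (congrArg (TensorProduct.comm R _ M) ((congrArg (i.1.mkQ.rTensor M) hy.symm).trans ?_)).trans
      (map_zero _)
    rw [← LinearMap.rTensor_comp_apply,
      show i.1.mkQ ∘ₗ i.1.subtype = 0 from (LinearMap.exact_subtype_mkQ i.1).linearMap_comp_eq_zero,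
      LinearMap.rTensor_zero, LinearMap.zero_apply]
  have hmem := mem_range_of_rTensor_eq_zero φ x h0
  have hle : ∀ i : J, LinearMap.ker φ ≤ i.1 := fun i v hv =>
    (Submodule.Quotient.mk_eq_zero _).mp (congrFun (LinearMap.mem_ker.mp hv) i)
  refine ⟨LinearMap.ker φ, ?_, hmem, fun F'' h => hle ⟨F'', h⟩⟩
  obtain ⟨z, hz⟩ := hmem
  obtain ⟨K, hK, hle', w, hw⟩ := Submodule.exists_fg_le_eq_rTensor_inclusion z
  have hK' : x ∈ LinearMap.range (K.subtype.rTensor M) := by
    refine ⟨w, ?_⟩
    rw [← hz, hw, ← LinearMap.rTensor_comp_apply, Submodule.subtype_comp_inclusion]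
  rwa [le_antisymm (hle ⟨K, hK'⟩) hle']

theorem isMittagLeffler_of_exists_smallest [Module.Flat R M]
    (h : ∀ (n : ℕ) (x : (Fin n → R) ⊗[R] M), ∃ F' : Submodule R (Fin n → R),
        x ∈ LinearMap.range (F'.subtype.rTensor M) ∧
        ∀ F'' : Submodule R (Fin n → R), x ∈ LinearMap.range (F''.subtype.rTensor M) → F' ≤ F'') :
    CAlg.IsMittagLeffler R M := by
  intro ι Q _ _
  rw [injective_iff_map_eq_zero]
  intro x hx
  obtain ⟨J, hJ, y, hy⟩ := Submodule.exists_fg_le_eq_rTensor_subtype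
    (TensorProduct.comm R M (Π i, Q i) x)
  haveI : Module.Finite R J := Module.Finite.iff_fg.mpr hJ
  obtain ⟨n, π, hπ⟩ := Module.Finite.exists_fin' R J
  obtain ⟨z, rfl⟩ := LinearMap.rTensor_surjective _ hπ y
  rw [← LinearMap.rTensor_comp_apply] at hy
  obtain ⟨F', hF', hmin⟩ := h n z
  have hle : F' ≤ LinearMap.ker (J.subtype ∘ₗ π) := fun v hv => by
    rw [LinearMap.mem_ker]
    funext i
    have : z ∈ LinearMap.range ((LinearMap.ker (LinearMap.proj i ∘ₗ J.subtype ∘ₗ π)).subtype.rTensor M) := by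
      refine mem_range_of_rTensor_eq_zero _ z ?_
      rw [LinearMap.rTensor_comp_apply, ← hy]
      apply (TensorProduct.comm R _ _).injective
      rw [map_zero, comm_rTensor, ← LinearEquiv.trans_apply, TensorProduct.comm_trans_comm,
        LinearEquiv.refl_apply, ← piRightHom_apply_eq_lTensor, hx, Pi.zero_apply]
    exact LinearMap.mem_ker.mp (hmin _ this hv)
  obtain ⟨w, rfl⟩ := hF'
  have h0 : (J.subtype ∘ₗ π) ∘ₗ F'.subtype = 0 := LinearMap.ext fun v => hle v.2
  rw [← LinearMap.rTensor_comp_apply, h0, LinearMap.rTensor_zero, LinearMap.zero_apply] at hy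
  exact (TensorProduct.comm R M _).map_eq_zero_iff.mp hy

end Groth.Agent.MLMod
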