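import Groth.Agent.MLMod.Basic
import Mathlib.RingTheory.TensorProduct.Finite

/-!
Tensor products of Mittag-Leffler modules.
-/

set_option autoImplicit false
set_option linter.style.haveILetI false
open TensorProduct

universe u

namespace Groth.Agent.MLMod

variable {R : Type u} [CommRing R]

theorem finitePresentation_tensor (P P' : Type u) [AddCommGroup P] [Module R P]
    [Module.FinitePresentation R P] [AddCommGroup P'] [Module R P'] [Module.FinitePresentation R P'] :
    Module.FinitePresentation R (P ⊗[R] P') := by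
  obtain ⟨n, K, e, hK⟩ := Module.FinitePresentation.exists_fin R P
  haveI : Module.Finite R K := Module.Finite.iff_fg.mpr hK
  haveI : Module.FinitePresentation R ((Fin n → R) ⊗[R] P') :=
    Module.FinitePresentation.of_equiv (finFunTensor n P').symm
  let π : (Fin n → R) →ₗ[R] P := e.symm.toLinearMap ∘ₗ K.mkQ
  have hπ : Function.Surjective π := e.symm.surjective.comp K.mkQ_surjective
  have hex : Function.Exact K.subtype π := by
    intro v; simp [π, Submodule.Quotient.mk_eq_zero]
  refine Module.finitePresentation_of_surjective (π.rTensor P') (LinearMap.rTensor_surjective _ hπ) ?_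
  rw [LinearMap.exact_iff.mp (rTensor_exact P' hex hπ)]
  exact Module.Finite.iff_fg.mp inferInstance

theorem Dominates.lTensor {M N M' : Type u} [AddCommGroup M] [Module R M] [AddCommGroup N]
    [Module R N] [AddCommGroup M'] [Module R M'] {f : M →ₗ[R] N} {g : M →ₗ[R] M'}
    (h : Dominates R f g) (A : Type u) [AddCommGroup A] [Module R A] :
    Dominates R (f.lTensor A) (g.lTensor A) := by
  intro Q _ _ x hx
  let e : ∀ (X : Type u) [AddCommGroup X] [Module R X], (A ⊗[R] X) ⊗[R] Q ≃ₗ[R] X ⊗[R] (A ⊗[R] Q) :=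
    fun X _ _ => TensorProduct.assoc R A X Q ≪≫ₗ TensorProduct.leftComm R A X Q
  have key : ∀ (X : Type u) [AddCommGroup X] [Module R X] (a : M →ₗ[R] X) (y : (A ⊗[R] M) ⊗[R] Q),
      e X ((a.lTensor A).rTensor Q y) = a.rTensor (A ⊗[R] Q) (e M y) := by
    intro X _ _ a y
    induction y using TensorProduct.induction_on with
    | zero => simp
    | tmul am q =>
      induction am using TensorProduct.induction_on with
      | zero => simp
      | tmul m n => simp [e]
      | add u v hu hv => simp only [TensorProduct.add_tmul, map_add, hu, hv]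
    | add u v hu hv => simp only [map_add, hu, hv]
  rw [LinearMap.mem_ker] at hx ⊢
  apply (e M').injective
  rw [key, map_zero]
  exact h _ (by rw [LinearMap.mem_ker, ← key, hx, map_zero])

theorem Dominates.rTensor {M N M' : Type u} [AddCommGroup M] [Module R M] [AddCommGroup N]
    [Module R N] [AddCommGroup M'] [Module R M'] {f : M →ₗ[R] N} {g : M →ₗ[R] M'}
    (h : Dominates R f g) (A : Type u) [AddCommGroup A] [Module R A] :
    Dominates R (f.rTensor A) (g.rTensor A) := by
  intro Q _ _ x hx
  have key : ∀ (X : Type u) [AddCommGroup X] [Module R X] (a : M →ₗ[R] X) (y : (M ⊗[R] A) ⊗[R] Q),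
      TensorProduct.assoc R X A Q ((a.rTensor A).rTensor Q y) =
        a.rTensor (A ⊗[R] Q) (TensorProduct.assoc R M A Q y) := by
    intro X _ _ a y
    induction y using TensorProduct.induction_on with
    | zero => simp
    | tmul am q =>
      induction am using TensorProduct.induction_on with
      | zero => simp
      | tmul m n => simp
      | add u v hu hv => simp only [TensorProduct.add_tmul, map_add, hu, hv]
    | add u v hu hv => simp only [map_add, hu, hv]
  rw [LinearMap.mem_ker] at hx ⊢
  apply (TensorProduct.assoc R M' A Q).injective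
  rw [key, map_zero]
  exact h _ (by rw [LinearMap.mem_ker, ← key, hx, map_zero])

theorem isMittagLeffler_tensor {M N : Type u} [AddCommGroup M] [Module R M] [AddCommGroup N]
    [Module R N] (hM : CAlg.IsMittagLeffler R M) (hN : CAlg.IsMittagLeffler R N) :
    CAlg.IsMittagLeffler R (M ⊗[R] N) := by
  refine isMittagLeffler_of_dominates fun n f => ?_
  obtain ⟨M₁, N₁, hM₁, hN₁, hle⟩ := TensorProduct.exists_finite_submodule_of_setFinite
    (Set.range fun k => f (Pi.single k 1)) (Set.finite_range _)
  obtain ⟨a, π₁, hπ₁⟩ := Module.Finite.exists_fin' R M₁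
  obtain ⟨b, π₂, hπ₂⟩ := Module.Finite.exists_fin' R N₁
  let f₁ : (Fin a → R) →ₗ[R] M := M₁.subtype ∘ₗ π₁
  let f₂ : (Fin b → R) →ₗ[R] N := N₁.subtype ∘ₗ π₂
  have hlift : ∀ k, ∃ z, TensorProduct.map f₁ f₂ z = f (Pi.single k 1) := fun k => by
    obtain ⟨w, hw⟩ := hle ⟨k, rfl⟩
    obtain ⟨z, rfl⟩ := TensorProduct.map_surjective hπ₁ hπ₂ w
    refine ⟨z, ?_⟩
    refine Eq.trans ?_ hw
    rw [TensorProduct.mapIncl, ← LinearMap.comp_apply (g := TensorProduct.map π₁ π₂),
      ← TensorProduct.map_comp]
  choose z hz using hlift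
  let ψ : (Fin n → R) →ₗ[R] (Fin a → R) ⊗[R] (Fin b → R) := (Pi.basisFun R (Fin n)).constr R z
  have hf : f = TensorProduct.map f₁ f₂ ∘ₗ ψ :=
    (Pi.basisFun R (Fin n)).ext fun k => by
      rw [LinearMap.comp_apply, Module.Basis.constr_basis, hz, Pi.basisFun_apply]
  obtain ⟨P, _, _, _, g₁, h₁, hfg₁, hd₁⟩ := exists_factor_dominates hM f₁
  obtain ⟨P', _, _, _, g₂, h₂, hfg₂, hd₂⟩ := exists_factor_dominates hN f₂
  refine ⟨P ⊗[R] P', inferInstance, inferInstance, finitePresentation_tensor P P',
    TensorProduct.map g₁ g₂ ∘ₗ ψ, fun Q _ _ => le_antisymm ?_ ?_⟩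
  · intro x hx
    rw [LinearMap.mem_ker, hf, LinearMap.rTensor_comp_apply, ← LinearMap.rTensor_comp_lTensor,
      LinearMap.rTensor_comp_apply] at hx
    have h1 := (hd₁.rTensor N) Q hx
    have e1 : g₁.rTensor N ∘ₗ f₂.lTensor (Fin a → R) = f₂.lTensor P ∘ₗ g₁.rTensor (Fin b → R) := by
      rw [LinearMap.rTensor_comp_lTensor, LinearMap.lTensor_comp_rTensor]
    rw [LinearMap.mem_ker, ← LinearMap.rTensor_comp_apply, e1, LinearMap.rTensor_comp_apply] at h1
    have h2 := (hd₂.lTensor P) Q h1
    rw [LinearMap.mem_ker, ← LinearMap.rTensor_comp_apply, LinearMap.lTensor_comp_rTensor] at h2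
    rw [LinearMap.mem_ker, LinearMap.rTensor_comp_apply]
    exact h2
  · refine dominates_of_comp (h := TensorProduct.map h₁ h₂) ?_ Q
    rw [hf, ← LinearMap.comp_assoc, ← TensorProduct.map_comp, ← hfg₁, ← hfg₂]

end Groth.Agent.MLMod
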